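import Groth.Agent.TwStructLib.Chart
import Groth.Agent.TwConstLib.Const
import Groth.Agent.ProperConnLib.EtaleUnibranch
import Groth.Agent.MultHomLib.Desc

/-!
# Twisted constant schemes over irreducible geometrically unibranch bases
-/

set_option autoImplicit false
set_option linter.style.haveILetI false
set_option backward.isDefEq.respectTransparency false
set_option synthInstance.maxHeartbeats 400000

noncomputable section

universe u

open CategoryTheory CategoryTheory.Limits AlgebraicGeometry TopologicalSpace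

namespace Groth.Agent.TwStruct

variable {S : Scheme.{u}} [IrreducibleSpace S] (hS : ∀ s : S, CAlg2.IsGeomUnibranch (S.presheaf.stalk s))
  {X : Over S} (hX : TwC.IsTwConst TwC.Topology.etale X)

theorem eq_genericPoint_of_specializes {s : S} (h : s ⤳ genericPoint S) : s = genericPoint S :=
  (h.antisymm (genericPoint_specializes s)).eq

omit [IrreducibleSpace S] in
theorem exists_genericPoint_component {Y : Scheme.{u}} {Z : Set Y} (hZ : Z ∈ irreducibleComponents Y) :
    ∃ g : Y, closure {g} = Z := by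
  exact ⟨_, hZ.1.closure_genericPoint (isClosed_of_mem_irreducibleComponents Z hZ)⟩

include hS hX

theorem exists_component (x : X.left) :
    ∃! l : X.left, X.hom l = genericPoint S ∧ x ∈ closure ({l} : Set X.left) := by
  haveI := etale_hom hX
  obtain ⟨h1, h2⟩ := ProperConnLib.components_of_etale_unibranch X.hom hS
  have hcomp : ∀ l : X.left, X.hom l = genericPoint S → closure ({l} : Set X.left) ∈ irreducibleComponents X.left := by
    intro l hl
    refine FibDimLib.closure_mem_irreducibleComponents_of_max fun w hw => ?_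
    have hwl : X.hom w = genericPoint S := eq_genericPoint_of_specializes (hl ▸ hw.map X.hom.continuous)
    obtain ⟨Z, ⟨hZ, hwZ⟩, -⟩ := h1 w
    obtain ⟨-, z, hz, hzu⟩ := h2 Z hZ
    have hlZ : l ∈ Z := hw.mem_closed (isClosed_of_mem_irreducibleComponents Z hZ) hwZ
    rw [hzu w ⟨hwZ, hwl⟩, hzu l ⟨hlZ, hl⟩]
  obtain ⟨Z, ⟨hZ, hxZ⟩, huniq⟩ := h1 x
  obtain ⟨-, l, ⟨hlZ, hl⟩, hlu⟩ := h2 Z hZ
  have e : closure ({l} : Set X.left) = Z := huniq _ ⟨hcomp l hl, ?_⟩
  · refine ⟨l, ⟨hl, e.symm ▸ hxZ⟩, fun m hm => ?_⟩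
    obtain rfl := huniq _ ⟨hcomp m hm.1, hm.2⟩
    exact hlu m ⟨subset_closure rfl, hm.1⟩
  have hsub : closure ({l} : Set X.left) ⊆ Z :=
    closure_minimal (Set.singleton_subset_iff.2 hlZ) (isClosed_of_mem_irreducibleComponents Z hZ)
  exact ((hcomp l hl).2 hZ.1 hsub) hxZ

theorem isClopen_closure {l : X.left} (hl : X.hom l = genericPoint S) : IsClopen (closure ({l} : Set X.left)) := by
  refine ⟨isClosed_closure, ?_⟩
  haveI := etale_hom hX
  obtain ⟨h1, h2⟩ := ProperConnLib.components_of_etale_unibranch X.hom hS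
  obtain ⟨Z, ⟨hZ, hlZ⟩, -⟩ := h1 l
  obtain ⟨hopen, z, hz, hzu⟩ := h2 Z hZ
  obtain ⟨g, hg⟩ := exists_genericPoint_component hZ
  have hgl : g ⤳ l := by
    rw [specializes_iff_mem_closure, hg]
    exact hlZ
  have hg' : X.hom g = genericPoint S := eq_genericPoint_of_specializes (hl ▸ hgl.map X.hom.continuous)
  rw [(hzu l ⟨hlZ, hl⟩).trans (hzu g ⟨hg.subset (subset_closure rfl), hg'⟩).symm, hg]
  exact hopen

/-- The component through a point of the generic fibre. -/
def component {l : X.left} (hl : X.hom l = genericPoint S) : X.left.Opens :=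
  ⟨closure {l}, (isClopen_closure hS hX hl).2⟩

theorem eq_of_mem_component {l m : X.left} (hl : X.hom l = genericPoint S) (hm : m ∈ component hS hX hl)
    (hm' : X.hom m = genericPoint S) : m = l :=
  (exists_component hS hX m).unique ⟨hm', subset_closure rfl⟩ ⟨hl, hm⟩

theorem isFinite_component {l : X.left} (hl : X.hom l = genericPoint S) :
    IsFinite ((component hS hX hl).ι ≫ X.hom) := by
  let U := component hS hX hl
  let h : (U : Scheme.{u}) ⟶ S := U.ι ≫ X.hom
  haveI : IsClosedImmersion U.ι := IsClosedImmersion.of_isPreimmersion _ (by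
    rw [Scheme.Opens.range_ι]; exact (isClopen_closure hS hX hl).1)
  haveI := etale_hom hX
  refine descend_local (P := @IsFinite) h fun s => ?_
  obtain ⟨S', f, s', hf, hfs, hc⟩ := exists_chart hX s
  haveI := hf
  obtain ⟨h1, h2⟩ := ProperConnLib.components_of_etale_unibranch f hS
  obtain ⟨Z, ⟨hZ, hsZ⟩, -⟩ := h1 s'
  obtain ⟨W, hW, hsW, hWZ⟩ := exists_isAffineOpen_mem_and_subset (X := S') (U := ⟨Z, (h2 Z hZ).1⟩) hsZ
  haveI : IrreducibleSpace (W : Scheme.{u}) := by
    have hWirr : IsPreirreducible (W : Set S') := hZ.1.2.open_subset W.isOpen hWZ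
    haveI : Nonempty (W : Scheme.{u}) := ⟨⟨s', hsW⟩⟩
    haveI : PreirreducibleSpace (W : Scheme.{u}) := Subtype.preirreducibleSpace hWirr
    exact ⟨‹_›⟩
  haveI : IsAffine (W : Scheme.{u}) := hW
  obtain ⟨I, e, he⟩ := (hc.comp W.ι (f' := W.ι ≫ f) rfl).snd_eq
  refine ⟨_, W.ι ≫ f, ⟨s', hsW⟩, inferInstance, hfs, ?_⟩
  let g := W.ι ≫ f
  let a : pullback h g ⟶ pullback X.hom g :=
    pullback.lift (pullback.fst _ _ ≫ U.ι) (pullback.snd _ _) (by rw [Category.assoc]; exact pullback.condition)
  have sq : IsPullback (pullback.fst h g) a U.ι (pullback.fst X.hom g) := by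
    refine IsPullback.of_bot ?_ (pullback.lift_fst _ _ _).symm (IsPullback.of_hasPullback X.hom g)
    rw [pullback.lift_snd]
    exact IsPullback.of_hasPullback _ _
  haveI : IsClosedImmersion a := MorphismProperty.of_isPullback sq inferInstance
  haveI : IsOpenImmersion a := MorphismProperty.of_isPullback sq inferInstance
  let c : pullback h g ⟶ ∐ fun _ : I => (W : Scheme.{u}) := a ≫ e.hom
  haveI : IsClosedImmersion c := inferInstance
  haveI : IsOpenImmersion c := inferInstance
  have hcs : c ≫ Sigma.desc (fun _ => 𝟙 (W : Scheme.{u})) = pullback.snd h g := by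
    rw [Category.assoc, he, pullback.lift_snd]
  rw [← hcs]
  let ξ := genericPoint (W : Scheme.{u})
  have hξ : g ξ = genericPoint S := by
    obtain ⟨t, ht, hgt⟩ := Flat.generalizingMap g (genericPoint_specializes (g ξ))
    rwa [(ht.antisymm (genericPoint_specializes t)).eq] at hgt
  obtain ⟨S₀, hS₀, hηS₀, -⟩ := exists_isAffineOpen_mem_and_subset (X := S) (x := genericPoint S) (U := ⊤) trivial
  let lU : (U : Scheme.{u}) := ⟨l, subset_closure rfl⟩
  obtain ⟨U₀, hU₀, hlU₀, hU₀S⟩ := exists_isAffineOpen_mem_and_subset (X := (U : Scheme.{u})) (x := lU) (U := h ⁻¹ᵁ S₀)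
    (show X.hom l ∈ S₀ from hl.symm ▸ hηS₀)
  obtain ⟨W₀, hW₀, hξW₀, hW₀S⟩ := exists_isAffineOpen_mem_and_subset (X := (W : Scheme.{u})) (x := ξ) (U := g ⁻¹ᵁ S₀)
    (show g ξ ∈ S₀ from hξ.symm ▸ hηS₀)
  haveI : IsAffine (S₀ : Scheme.{u}) := hS₀
  haveI : IsAffine (U₀ : Scheme.{u}) := hU₀
  haveI : IsAffine (W₀ : Scheme.{u}) := hW₀
  let m : pullback (h.resLE S₀ U₀ hU₀S) (g.resLE S₀ W₀ hW₀S) ⟶ pullback h g :=
    pullback.map _ _ _ _ U₀.ι W₀.ι S₀.ι (Scheme.Hom.resLE_comp_ι _ _) (Scheme.Hom.resLE_comp_ι _ _)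
  let K : Set (pullback h g : Scheme.{u}) := Set.range m
  have hK : IsCompact K := isCompact_range m.continuous
  have hfib : ∀ p, pullback.snd h g p = ξ → p ∈ K := by
    intro p hp
    have hpl : pullback.fst h g p = lU := by
      refine Subtype.ext (eq_of_mem_component hS hX hl (pullback.fst h g p).2 ?_)
      show h (pullback.fst h g p) = genericPoint S
      rw [← Scheme.Hom.comp_apply, pullback.condition, Scheme.Hom.comp_apply, hp, hξ]
    show p ∈ Set.range m
    rw [Scheme.Pullback.range_map, Scheme.Opens.range_ι, Scheme.Opens.range_ι]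
    exact ⟨show pullback.fst h g p ∈ U₀ from hpl ▸ hlU₀, show pullback.snd h g p ∈ W₀ from hp ▸ hξW₀⟩
  let R : I → Set (∐ fun _ : I => (W : Scheme.{u}) : Scheme.{u}) :=
    fun i => Set.range (Sigma.ι (fun _ : I => (W : Scheme.{u})) i)
  obtain ⟨J, hJ⟩ := (hK.image c.continuous).elim_finite_subcover R
    (fun i => (Sigma.ι (fun _ : I => (W : Scheme.{u})) i).isOpenEmbedding.isOpen_range)
    fun p _ => Set.mem_iUnion.2 (TwConstLib.mem_range_sigmaι p)
  have hrange : Set.range c ⊆ ⋃ j ∈ J, R j := by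
    rintro _ ⟨p, rfl⟩
    obtain ⟨i, w, hw⟩ := TwConstLib.mem_range_sigmaι (c p)
    have hwo : IsOpen (Sigma.ι (fun _ : I => (W : Scheme.{u})) i ⁻¹' Set.range c) :=
      c.isOpenEmbedding.isOpen_range.preimage (Sigma.ι (fun _ : I => (W : Scheme.{u})) i).continuous
    obtain ⟨q, hq⟩ := (genericPoint_specializes w).mem_open hwo ⟨p, hw.symm⟩
    have hqξ : pullback.snd h g q = ξ := by
      rw [← hcs, Scheme.Hom.comp_apply, hq, ← Scheme.Hom.comp_apply, Sigma.ι_desc]
      rfl
    obtain ⟨j, hj, v, hv⟩ := Set.mem_iUnion₂.1 (hJ ⟨q, hfib q hqξ, rfl⟩)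
    refine Set.mem_iUnion₂.2 ⟨j, hj, ?_⟩
    by_contra hne
    have hij : i ≠ j := fun e => hne (e ▸ ⟨w, hw⟩)
    exact Set.disjoint_left.mp (Opens.coe_disjoint.mpr (disjoint_opensRange_sigmaι _ i j hij))
      ⟨_, hq.symm⟩ ⟨v, hv⟩
  haveI : CompactSpace (pullback h g : Scheme.{u}) := by
    rw [← isCompact_univ_iff, c.isClosedEmbedding.isEmbedding.isCompact_iff, Set.image_univ]
    exact (J.finite_toSet.isCompact_biUnion fun j _ =>
      isCompact_range (Sigma.ι (fun _ : I => (W : Scheme.{u})) j).continuous).of_isClosed_subset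
      c.isClosedEmbedding.isClosed_range hrange
  haveI : QuasiCompact (c ≫ Sigma.desc (fun _ => 𝟙 (W : Scheme.{u}))) := quasiCompact_of_compactSpace _
  exact TwConstLib.isFinite_of_closed_const c

theorem etale_component {l : X.left} (hl : X.hom l = genericPoint S) :
    Etale ((component hS hX hl).ι ≫ X.hom) := by
  haveI := etale_hom hX
  infer_instance

theorem surjective_component {l : X.left} (hl : X.hom l = genericPoint S) :
    Surjective ((component hS hX hl).ι ≫ X.hom) := by
  let h := (component hS hX hl).ι ≫ X.hom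
  haveI := isFinite_component hS hX hl
  refine ⟨fun s => ?_⟩
  exact (genericPoint_specializes s).mem_closed h.isClosedMap.isClosed_range ⟨⟨l, subset_closure rfl⟩, hl⟩

/-- A component with a rational generic point maps isomorphically to the base. -/
theorem isIso_component {K : Type u} [Field K] (i : Spec (CommRingCat.of K) ⟶ S) [Mono i]
    (hi : ∀ t, i t = genericPoint S) {l : X.left} (hl : X.hom l = genericPoint S)
    (τ : Spec (CommRingCat.of K) ⟶ (component hS hX hl : Scheme.{u}))
    (hτ : τ ≫ (component hS hX hl).ι ≫ X.hom = i) :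
    IsIso ((component hS hX hl).ι ≫ X.hom) := by
  let U := component hS hX hl
  let h := U.ι ≫ X.hom
  haveI := etale_component hS hX hl
  haveI := isFinite_component hS hX hl
  haveI := surjective_component hS hX hl
  let sct : Spec (CommRingCat.of K) ⟶ pullback h i := pullback.lift τ (𝟙 _) (hτ.trans (Category.id_comp i).symm)
  have hsct : sct ≫ pullback.snd h i = 𝟙 _ := pullback.lift_snd _ _ _
  haveI : Etale (sct ≫ pullback.snd h i) := by rw [hsct]; infer_instance
  haveI : Etale sct := Etale.of_comp sct (pullback.snd h i)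
  haveI : IsSplitMono sct := ⟨⟨⟨_, hsct⟩⟩⟩
  haveI : IsOpenImmersion sct := IsOpenImmersion.of_flat_of_mono sct
  haveI : Surjective sct := ⟨fun p => by
    refine ⟨IsLocalRing.closedPoint K, (pullback.fst h i).injective ?_⟩
    refine Subtype.ext ((eq_of_mem_component hS hX hl (pullback.fst h i _).2 ?_).trans
      (eq_of_mem_component hS hX hl (pullback.fst h i p).2 ?_).symm)
    all_goals
      show h (pullback.fst h i _) = genericPoint S
      rw [← Scheme.Hom.comp_apply, pullback.condition, Scheme.Hom.comp_apply, hi]⟩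
  haveI : Epi sct.base := (TopCat.epi_iff_surjective _).2 sct.surjective
  haveI : IsIso sct := IsOpenImmersion.isIso sct
  haveI : IsIso (pullback.snd h i) := by
    rw [← IsIso.inv_eq_of_hom_inv_id hsct]
    infer_instance
  haveI : IsOpenImmersion (pullback.diagonal h) := inferInstance
  haveI : Surjective (pullback.diagonal h) := ⟨fun z => by
    by_contra hz
    let q := pullback.fst h h ≫ h
    obtain ⟨z', hz', hqz⟩ := Flat.generalizingMap q (genericPoint_specializes (q z))
    refine absurd (hz'.mem_open (pullback.diagonal h).isClosedEmbedding.isClosed_range.isOpen_compl hz) ?_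
    rw [Set.mem_compl_iff, not_not]
    obtain ⟨p, hp, -⟩ := Scheme.Pullback.exists_preimage_pullback (f := q) (g := i) z' (IsLocalRing.closedPoint K)
      (hqz.trans (hi _).symm)
    have w₂ : (pullback.fst q i ≫ pullback.snd h h) ≫ h = pullback.snd q i ≫ i := by
      rw [Category.assoc, ← pullback.condition, pullback.condition]
    have w₁ : (pullback.fst q i ≫ pullback.fst h h) ≫ h = pullback.snd q i ≫ i := by
      rw [Category.assoc, pullback.condition]
    have heq : pullback.lift _ _ w₁ = pullback.lift _ _ w₂ := by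
      rw [← cancel_mono (pullback.snd h i), pullback.lift_snd, pullback.lift_snd]
    have heq' := congrArg (· ≫ pullback.fst h i) heq
    simp only [pullback.lift_fst] at heq'
    have e : (pullback.fst q i ≫ pullback.fst h h) ≫ pullback.diagonal h = pullback.fst q i := by
      apply pullback.hom_ext
      · rw [Category.assoc, Category.assoc, pullback.diagonal_fst, Category.comp_id]
      · rw [Category.assoc, Category.assoc, pullback.diagonal_snd, Category.comp_id, ← heq']
    exact ⟨(pullback.fst q i ≫ pullback.fst h h) p, by rw [← Scheme.Hom.comp_apply, e, hp]⟩⟩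
  haveI : Epi (pullback.diagonal h).base := (TopCat.epi_iff_surjective _).2 (pullback.diagonal h).surjective
  haveI : IsIso (pullback.diagonal h) := IsOpenImmersion.isIso _
  haveI : Mono h := (pullback.isIso_diagonal_iff h).1 ‹_›
  exact MultHom.isIso_of_mono_fs h ⟨inferInstance, ‹Surjective h›⟩

omit [IrreducibleSpace S] hS hX in
/-- Two maps into an unramified separated scheme over the base agree as soon as they do so on all points. -/
theorem eq_of_mem_range_diagonal {Y T B : Scheme.{u}} (v : Y ⟶ B) [Etale v] {σ₁ σ₂ : T ⟶ Y}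
    (w : σ₁ ≫ v = σ₂ ≫ v) (h : ∀ t, pullback.lift σ₁ σ₂ w t ∈ Set.range (pullback.diagonal v)) : σ₁ = σ₂ := by
  haveI : IsOpenImmersion (pullback.diagonal v) := inferInstance
  let k := IsOpenImmersion.lift (pullback.diagonal v) (pullback.lift σ₁ σ₂ w) (by rintro _ ⟨t, rfl⟩; exact h t)
  have hk : k ≫ pullback.diagonal v = pullback.lift σ₁ σ₂ w := IsOpenImmersion.lift_fac _ _ _
  have c₁ := congrArg (· ≫ pullback.fst v v) hk
  have c₂ := congrArg (· ≫ pullback.snd v v) hk
  simp only [Category.assoc, pullback.diagonal_fst, pullback.diagonal_snd, pullback.lift_fst,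
    pullback.lift_snd, Category.comp_id] at c₁ c₂
  exact c₁.symm.trans c₂

omit hS in
theorem eq_of_generic {K : Type u} [Field K] (i : Spec (CommRingCat.of K) ⟶ S)
    (hi : ∀ t, i t = genericPoint S) {σ₁ σ₂ : S ⟶ X.left} (h₁ : σ₁ ≫ X.hom = 𝟙 S) (h₂ : σ₂ ≫ X.hom = 𝟙 S)
    (h : i ≫ σ₁ = i ≫ σ₂) : σ₁ = σ₂ := by
  haveI := etale_hom hX
  haveI := isSeparated_hom hX
  have w := h₁.trans h₂.symm
  refine eq_of_mem_range_diagonal X.hom w fun s => ?_
  refine ((genericPoint_specializes s).map (pullback.lift σ₁ σ₂ w).continuous).mem_closed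
    (pullback.diagonal X.hom).isClosedEmbedding.isClosed_range ⟨(i ≫ σ₁) (IsLocalRing.closedPoint K), ?_⟩
  have e : (i ≫ σ₁) ≫ pullback.diagonal X.hom = i ≫ pullback.lift σ₁ σ₂ w := by
    apply pullback.hom_ext
    · rw [Category.assoc, pullback.diagonal_fst, Category.comp_id, Category.assoc, pullback.lift_fst]
    · rw [Category.assoc, pullback.diagonal_snd, Category.comp_id, Category.assoc, pullback.lift_snd, h]
  rw [← hi (IsLocalRing.closedPoint K), ← Scheme.Hom.comp_apply, ← Scheme.Hom.comp_apply, e]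

theorem exists_extend {K : Type u} [Field K] (i : Spec (CommRingCat.of K) ⟶ S) [Mono i]
    (hi : ∀ t, i t = genericPoint S) (τ : Spec (CommRingCat.of K) ⟶ X.left) (hτ : τ ≫ X.hom = i) :
    ∃ σ : S ⟶ X.left, σ ≫ X.hom = 𝟙 S ∧ i ≫ σ = τ := by
  have hl : X.hom (τ (IsLocalRing.closedPoint K)) = genericPoint S := by
    rw [← Scheme.Hom.comp_apply, hτ, hi]
  let U := component hS hX hl
  let τU := IsOpenImmersion.lift U.ι τ (by
    rintro _ ⟨t, rfl⟩
    rw [Scheme.Opens.range_ι, Subsingleton.elim t (IsLocalRing.closedPoint K)]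
    exact subset_closure rfl)
  have hτU : τU ≫ U.ι = τ := IsOpenImmersion.lift_fac _ _ _
  have hτU' : τU ≫ U.ι ≫ X.hom = i := by rw [← Category.assoc, hτU, hτ]
  haveI := isIso_component hS hX i hi hl τU hτU'
  refine ⟨inv (U.ι ≫ X.hom) ≫ U.ι, by rw [Category.assoc]; exact IsIso.inv_hom_id _, ?_⟩
  rw [← hτU', Category.assoc, IsIso.hom_inv_id_assoc, hτU]

end Groth.Agent.TwStruct
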