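import Groth.Agent.TwStructLib.Generic
import Groth.Agent.S17447
import Groth.Agent.SubmDescLib.Sections

/-!
# Separated étale schemes and twisted constant schemes over henselian local rings
-/

set_option autoImplicit false
set_option linter.style.haveILetI false
set_option backward.isDefEq.respectTransparency false
set_option backward.isDefEq.respectTransparency.types false

noncomputable section

universe u

open CategoryTheory CategoryTheory.Limits AlgebraicGeometry TopologicalSpace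

namespace Groth.Agent.TwStruct

variable {R : Type u} [CommRing R] [HenselianLocalRing R]

section Sep

variable {Y : Scheme.{u}} (f : Y ⟶ Spec (CommRingCat.of R)) [Etale f] [IsSeparated f]

/-- The local scheme of a closed-fibre point is open and closed and finite over the base. -/
theorem exists_local_piece {x : Y} (hx : f x = IsLocalRing.closedPoint R) :
    ∃ W : Y.Opens, IsAffineOpen W ∧ x ∈ W ∧ IsClosed (W : Set Y) ∧ IsFinite (W.ι ≫ f) ∧ ∀ w ∈ W, w ⤳ x := by
  haveI := WeightLib.locallyQuasiFinite_of_etale f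
  obtain ⟨U₀, hU₀, hxU₀, -⟩ := exists_isAffineOpen_mem_and_subset (X := Y) (x := x) (U := ⊤) trivial
  haveI : IsAffine (U₀ : Scheme.{u}) := hU₀
  let F : Set Y := {y | y ∈ U₀ ∧ f y = IsLocalRing.closedPoint R ∧ y ≠ x}
  have hF : ((U₀.ι ≫ f) ⁻¹' {IsLocalRing.closedPoint R}).Finite := (U₀.ι ≫ f).finite_preimage_singleton _
  have hFf : F.Finite := (hF.image U₀.ι).subset fun y hy => ⟨⟨y, hy.1⟩, hy.2.1, rfl⟩
  have hcl : ∀ y ∈ F, IsClosed ({y} : Set Y) := fun y hy => by
    have hS : IsClosed (f ⁻¹' {IsLocalRing.closedPoint R}) :=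
      (IsLocalRing.isClosed_singleton_closedPoint R).preimage f.continuous
    haveI := (Scheme.Hom.isDiscrete_preimage_singleton f (IsLocalRing.closedPoint R)).to_subtype
    simpa using hS.isClosedEmbedding_subtypeVal.isClosedMap _ (isClosed_discrete {(⟨y, hy.2.1⟩ : f ⁻¹' {_})})
  have hFc : IsClosed F := by
    rw [← Set.biUnion_of_singleton F]
    exact hFf.isClosed_biUnion hcl
  obtain ⟨U, hU, hxU, hUsub⟩ := exists_isAffineOpen_mem_and_subset (X := Y) (x := x)
    (U := ⟨(U₀ : Set Y) \ F, U₀.isOpen.sdiff hFc⟩) ⟨hxU₀, fun h => h.2.2 rfl⟩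
  haveI : IsAffine (U : Scheme.{u}) := hU
  obtain ⟨W', ⟨hWc', hWf', hW'⟩, -⟩ := Groth.Agent.S17447.result R (U.ι ≫ f)
  let W : Y.Opens := U.ι ''ᵁ W'
  let e := U.ι.isoImage W'
  have he : e.inv ≫ W'.ι ≫ U.ι = W.ι := by
    rw [Iso.inv_comp_eq]
    exact (Scheme.Hom.isoImage_hom_ι U.ι W').symm
  haveI hWf : IsFinite (W.ι ≫ f) := by
    haveI := hWf'
    rw [← he, Category.assoc, Category.assoc]
    infer_instance
  haveI : IsAffine (W : Scheme.{u}) := isAffine_of_isAffineHom (W.ι ≫ f)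
  haveI : IsFinite W.ι := IsFinite.of_comp W.ι f
  refine ⟨W, ‹IsAffine (W : Scheme.{u})›, ⟨⟨x, hxU⟩, hW' _ hx, rfl⟩, ?_, hWf, fun w hw => ?_⟩
  · have := W.ι.isClosedMap.isClosed_range
    rwa [Scheme.Opens.range_ι] at this
  obtain ⟨w', hww', hw'⟩ := (W.ι ≫ f).isClosedMap.specializingMap
    (IsLocalRing.specializes_closedPoint ((W.ι ≫ f) ⟨w, hw⟩))
  have hw'U : w'.1 ∈ U := by
    obtain ⟨a, -, ha⟩ := w'.2
    exact ha ▸ a.2
  have hw'x : w'.1 = x := by
    by_contra hne
    exact (hUsub hw'U).2 ⟨(hUsub hw'U).1, hw', hne⟩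
  exact hw'x ▸ hww'.map W.ι.continuous

omit [HenselianLocalRing R] in
theorem isIso_germ {x : Y} {W : Y.Opens} (hW : IsAffineOpen W) (hxW : x ∈ W) (h : ∀ w ∈ W, w ⤳ x) :
    IsIso (Y.presheaf.germ W x hxW) := by
  letI : Algebra Γ(Y, W) (Y.presheaf.stalk x) := (Y.presheaf.germ W x hxW).hom.toAlgebra
  haveI := hW.isLocalization_stalk ⟨x, hxW⟩
  have hu : ∀ a ∈ (hW.primeIdealOf ⟨x, hxW⟩).asIdeal.primeCompl, IsUnit a := by
    intro a ha
    have hau : IsUnit (Y.presheaf.germ W x hxW a) := IsLocalization.map_units (Y.presheaf.stalk x) ⟨a, ha⟩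
    refine RingedSpace.isUnit_of_isUnit_germ Y.toRingedSpace W a fun w hw => ?_
    have : w ∈ Y.basicOpen a := (h w hw).mem_open (Y.basicOpen a).isOpen ((Y.mem_basicOpen a x hxW).2 hau)
    exact (Y.mem_basicOpen a w hw).1 this
  have hb := (IsLocalization.atUnits Γ(Y, W) _ (S := Y.presheaf.stalk x) hu).bijective
  rw [ConcreteCategory.isIso_iff_bijective]
  convert hb using 1
  funext a
  exact ((IsLocalization.atUnits Γ(Y, W) _ (S := Y.presheaf.stalk x) hu).commutes a).symm

theorem fromSpecStalk_props {x : Y} (hx : f x = IsLocalRing.closedPoint R) :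
    IsOpenImmersion (Y.fromSpecStalk x) ∧ IsClosedImmersion (Y.fromSpecStalk x) ∧
      IsFinite (Y.fromSpecStalk x ≫ f) ∧ Etale (Y.fromSpecStalk x ≫ f) ∧ Surjective (Y.fromSpecStalk x ≫ f) := by
  obtain ⟨W, hW, hxW, hWc, hWf, hWx⟩ := exists_local_piece f hx
  haveI := hWf
  haveI := isIso_germ hW hxW hWx
  haveI : IsClosedImmersion W.ι := IsClosedImmersion.of_isPreimmersion _ (by
    rw [Scheme.Opens.range_ι]; exact hWc)
  have e : Y.fromSpecStalk x = (Spec.map (Y.presheaf.germ W x hxW) ≫ hW.isoSpec.inv) ≫ W.ι := by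
    rw [← hW.fromSpecStalk_eq_fromSpecStalk hxW, IsAffineOpen.fromSpecStalk, Category.assoc, hW.isoSpec_inv_ι]
  rw [e]
  simp only [Category.assoc]
  refine ⟨inferInstance, inferInstance, inferInstance, inferInstance, ?_⟩
  haveI : Surjective (W.ι ≫ f) := ⟨fun s => (IsLocalRing.specializes_closedPoint s).mem_open
    (W.ι ≫ f).isOpenMap.isOpen_range ⟨⟨x, hxW⟩, hx⟩⟩
  infer_instance

theorem eq_of_specializes_closed {x x' y : Y} (hx : f x = IsLocalRing.closedPoint R)
    (hx' : f x' = IsLocalRing.closedPoint R) (h : y ⤳ x) (h' : y ⤳ x') : x = x' := by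
  obtain ⟨W, hW, hxW, hWc, hWf, hWx⟩ := exists_local_piece f hx
  have hx'W : x' ∈ W := h'.mem_closed hWc (h.mem_open W.isOpen hxW)
  haveI := WeightLib.locallyQuasiFinite_of_etale f
  exact (GeomIntLib.eq_of_specializes_of_same_image f (hWx x' hx'W) (hx'.trans hx.symm)).symm

/-- Sections are determined by their closed points. -/
theorem eq_of_residue {σ₁ σ₂ : Spec (CommRingCat.of R) ⟶ Y} (h₁ : σ₁ ≫ f = 𝟙 _) (h₂ : σ₂ ≫ f = 𝟙 _)
    (h : Spec.map (CommRingCat.ofHom (IsLocalRing.residue R)) ≫ σ₁ =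
      Spec.map (CommRingCat.ofHom (IsLocalRing.residue R)) ≫ σ₂) : σ₁ = σ₂ := by
  have w := h₁.trans h₂.symm
  refine eq_of_mem_range_diagonal f w fun s => ?_
  let i := Spec.map (CommRingCat.ofHom (IsLocalRing.residue R))
  refine ((IsLocalRing.specializes_closedPoint s).map (pullback.lift σ₁ σ₂ w).continuous).mem_open
    (pullback.diagonal f).isOpenEmbedding.isOpen_range
    ⟨(i ≫ σ₁) (IsLocalRing.closedPoint (IsLocalRing.ResidueField R)), ?_⟩
  have e : (i ≫ σ₁) ≫ pullback.diagonal f = i ≫ pullback.lift σ₁ σ₂ w := by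
    apply pullback.hom_ext
    · rw [Category.assoc, pullback.diagonal_fst, Category.comp_id, Category.assoc, pullback.lift_fst]
    · rw [Category.assoc, pullback.diagonal_snd, Category.comp_id, Category.assoc, pullback.lift_snd, h]
  rw [← Scheme.Hom.comp_apply, e, Scheme.Hom.comp_apply]
  exact congrArg (pullback.lift σ₁ σ₂ w) (IsLocalRing.comap_closedPoint (IsLocalRing.residue R))

end Sep

theorem exists_closed_specialization {X : Over (Spec (CommRingCat.of R))}
    (hX : TwC.IsTwConst TwC.Topology.etale X) (y : X.left) :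
    ∃ x : X.left, X.hom x = IsLocalRing.closedPoint R ∧ y ⤳ x := by
  obtain ⟨S', f, s', hf, hfs, hc⟩ := exists_chart hX (IsLocalRing.closedPoint R)
  haveI := hf
  let g := S'.fromSpecStalk s' ≫ f
  obtain ⟨I, e, he⟩ := (hc.comp (S'.fromSpecStalk s') (f' := g) rfl).snd_eq
  obtain ⟨t, ht, htf⟩ := Flat.generalizingMap f (hfs.symm ▸ IsLocalRing.specializes_closedPoint (X.hom y))
  obtain ⟨t₀, ht₀⟩ : t ∈ Set.range (S'.fromSpecStalk s') := by rw [Scheme.range_fromSpecStalk]; exact ht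
  obtain ⟨w, hw, -⟩ := Scheme.Pullback.exists_preimage_pullback (f := X.hom) (g := g) y t₀
    (by rw [Scheme.Hom.comp_apply, ht₀, htf])
  obtain ⟨⟨i, a⟩, ha⟩ := (sigmaMk fun _ : I => Spec (S'.presheaf.stalk s')).surjective (e.hom w)
  rw [sigmaMk_mk] at ha
  let c := Sigma.ι (fun _ : I => Spec (S'.presheaf.stalk s')) i ≫ e.inv ≫ pullback.fst X.hom g
  have hc : c ≫ X.hom = g := by
    simp only [c, Category.assoc, pullback.condition]
    rw [← he, Category.assoc, e.inv_hom_id_assoc, Sigma.ι_desc_assoc, Category.id_comp]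
  have hca : c a = y := by
    rw [Scheme.Hom.comp_apply, ha, ← Scheme.Hom.comp_apply, e.hom_inv_id_assoc]
    exact hw
  refine ⟨c (IsLocalRing.closedPoint _), ?_, ?_⟩
  · rw [← Scheme.Hom.comp_apply, hc, Scheme.Hom.comp_apply, Scheme.fromSpecStalk_closedPoint]
    exact hfs
  · exact hca ▸ (IsLocalRing.specializes_closedPoint a).map c.continuous

end Groth.Agent.TwStruct
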