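import Groth.Agent.DescLib.Family
import Groth.Agent.DiagHomLib.Global
import Groth.Agent.MiscFlat6.FpqcDesc
import Groth.Prelude.Def_Red
import Groth.Prelude.Def_TwC
import Groth.Prelude.Def_ActBC

/-!
# Trivialising charts of quasi-isotrivial twisted constant schemes
-/

set_option autoImplicit false
set_option linter.style.haveILetI false
set_option backward.isDefEq.respectTransparency false

noncomputable section

universe u

open CategoryTheory CategoryTheory.Limits AlgebraicGeometry TopologicalSpace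

namespace Groth.Agent.TwStruct

variable {S : Scheme.{u}}

/-- The scheme becomes constant over `f`. -/
def IsChart (X : Over S) {S' : Scheme.{u}} (f : S' ⟶ S) : Prop :=
  ∃ I : Type u, Nonempty (Red.bc f X ≅ TwC.const S' I)

/-- The base change of a constant scheme. -/
theorem nonempty_bc_const {S' T : Scheme.{u}} (g : T ⟶ S') (I : Type u) :
    Nonempty (Red.bc g (TwC.const S' I) ≅ TwC.const T I) := by
  have sq := DescLib.isPullback_sigma (π := g) (fun _ : I => 𝟙 S') (fun _ => 𝟙 T) (fun _ => g)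
    fun _ => IsPullback.of_id_fst
  exact ⟨(Over.isoMk sq.flip.isoPullback sq.flip.isoPullback_hom_snd).symm⟩

theorem IsChart.comp {X : Over S} {S' T : Scheme.{u}} {f : S' ⟶ S} (h : IsChart X f) (g : T ⟶ S') {f' : T ⟶ S}
    (e : g ≫ f = f') : IsChart X f' := by
  obtain ⟨I, ⟨a⟩⟩ := h
  obtain ⟨b⟩ := nonempty_bc_const g I
  exact ⟨I, ⟨(ActBC.bcCompIso g f X e).symm ≪≫ (Over.pullback g).mapIso a ≪≫ b⟩⟩

theorem exists_chart {X : Over S} (hX : TwC.IsTwConst TwC.Topology.etale X) (s : S) :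
    ∃ (S' : Scheme.{u}) (f : S' ⟶ S) (s' : S'), Etale f ∧ f s' = s ∧ IsChart X f := by
  obtain ⟨S', f, hf, ⟨s', hs'⟩, I, h⟩ := hX s
  exact ⟨S', f, s', hf, hs', I, h⟩

theorem isTwConst_bc {X : Over S} (hX : TwC.IsTwConst TwC.Topology.etale X) {T : Scheme.{u}} (p : T ⟶ S) :
    TwC.IsTwConst TwC.Topology.etale (Red.bc p X) := by
  intro t
  obtain ⟨S', f, s', hf, hs', h⟩ := exists_chart hX (p t)
  haveI := hf
  obtain ⟨I, ⟨a⟩⟩ := h.comp (pullback.snd p f) (pullback.condition (f := p) (g := f)).symm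
  obtain ⟨w, hw, -⟩ := Scheme.Pullback.exists_preimage_pullback (f := p) (g := f) t s' hs'.symm
  exact ⟨pullback p f, pullback.fst p f, inferInstance, ⟨w, hw⟩, I,
    ⟨ActBC.bcCompIso (pullback.fst p f) p X rfl ≪≫ a⟩⟩

/-- Descent along etale neighbourhoods of the points of the base. -/
theorem descend_local {P : MorphismProperty Scheme.{u}} [IsZariskiLocalAtTarget P]
    [P.DescendsAlong (@Surjective ⊓ @Flat ⊓ @QuasiCompact)] {Y : Scheme.{u}} (g : Y ⟶ S)
    (h : ∀ s : S, ∃ (S' : Scheme.{u}) (f : S' ⟶ S) (s' : S'), Etale f ∧ f s' = s ∧ P (pullback.snd g f)) : P g := by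
  choose S' f s' hf hs hP using h
  rw [IsZariskiLocalAtTarget.iff_of_openCover (P := P) S.affineCover]
  intro i
  let c := S.affineCover.f i
  change P (pullback.snd g c)
  haveI : ∀ a, Etale (pullback.fst c (f (c a))) := fun a => by haveI := hf (c a); infer_instance
  have hB : ∀ a, ∃ B : (pullback c (f (c a))).Opens, IsAffineOpen B ∧ a ∈ pullback.fst c (f (c a)) '' (B : Set _) := by
    intro a
    obtain ⟨z, hz, -⟩ := Scheme.Pullback.exists_preimage_pullback (f := c) (g := f (c a)) a (s' (c a)) (hs _).symm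
    obtain ⟨B, hB, hzB, -⟩ := exists_isAffineOpen_mem_and_subset (X := pullback c (f (c a))) (x := z) (U := ⊤) trivial
    exact ⟨B, hB, z, hzB, hz⟩
  choose B hBa hBx using hB
  obtain ⟨J, hJ⟩ := isCompact_univ.elim_finite_subcover (fun a => pullback.fst c (f (c a)) '' (B a : Set _))
    (fun a => (pullback.fst c (f (c a))).isOpenMap _ (B a).isOpen) fun a _ => Set.mem_iUnion.2 ⟨a, hBx a⟩
  let π : (∐ fun a : J => ((B a.1 : Scheme.{u}))) ⟶ _ := Sigma.desc fun a : J => (B a.1).ι ≫ pullback.fst c (f (c a.1))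
  haveI : Etale π := IsZariskiLocalAtSource.sigmaDesc fun a => inferInstance
  haveI : Surjective π := ⟨fun a => by
    obtain ⟨b, hb, z, hz, hza⟩ := Set.mem_iUnion₂.1 (hJ (Set.mem_univ a))
    refine ⟨Sigma.ι (fun a : J => ((B a.1 : Scheme.{u}))) ⟨b, hb⟩ ⟨z, hz⟩, ?_⟩
    rw [← Scheme.Hom.comp_apply, Sigma.ι_desc]
    exact hza⟩
  haveI : ∀ a : J, IsAffine (B a.1 : Scheme.{u}) := fun a => hBa a.1
  haveI : QuasiCompact π := quasiCompact_of_compactSpace _
  refine MorphismProperty.of_isPullback_of_descendsAlong (P := P) (Q := @Surjective ⊓ @Flat ⊓ @QuasiCompact)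
    (IsPullback.of_hasPullback π (pullback.snd g c)) ⟨⟨‹Surjective π›, inferInstance⟩, ‹QuasiCompact π›⟩ ?_
  rw [IsZariskiLocalAtTarget.iff_of_openCover (P := P) (sigmaOpenCover fun a : J => ((B a.1 : Scheme.{u})))]
  intro (a : J)
  change P (pullback.snd (pullback.fst π (pullback.snd g c)) (Sigma.ι (fun a : J => ((B a.1 : Scheme.{u}))) a))
  have sq₁ : IsPullback (pullback.fst (pullback.fst π (pullback.snd g c)) (Sigma.ι (fun a : J => ((B a.1 : Scheme.{u}))) a) ≫
      pullback.snd π (pullback.snd g c) ≫ pullback.fst g c)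
      (pullback.snd (pullback.fst π (pullback.snd g c)) (Sigma.ι (fun a : J => ((B a.1 : Scheme.{u}))) a)) g (Sigma.ι (fun a : J => ((B a.1 : Scheme.{u}))) a ≫ π ≫ c) :=
    (IsPullback.of_hasPullback _ _).paste_horiz
      ((IsPullback.of_hasPullback π (pullback.snd g c)).flip.paste_horiz (IsPullback.of_hasPullback g c))
  have e : Sigma.ι (fun a : J => ((B a.1 : Scheme.{u}))) a ≫ π ≫ c =
      ((B a.1).ι ≫ pullback.snd c (f (c a.1))) ≫ f (c a.1) := by
    rw [Sigma.ι_desc_assoc, Category.assoc, Category.assoc, pullback.condition]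
  rw [e] at sq₁
  have sq₂ := IsPullback.of_right
    (show IsPullback (pullback.lift _ (pullback.snd (pullback.fst π (pullback.snd g c)) (Sigma.ι (fun a : J => ((B a.1 : Scheme.{u}))) a) ≫
        (B a.1).ι ≫ pullback.snd c (f (c a.1))) (sq₁.w.trans (Category.assoc _ _ _).symm) ≫ pullback.fst g (f (c a.1)))
      (pullback.snd (pullback.fst π (pullback.snd g c)) (Sigma.ι (fun a : J => ((B a.1 : Scheme.{u}))) a)) g
      (((B a.1).ι ≫ pullback.snd c (f (c a.1))) ≫ f (c a.1)) by
      rw [pullback.lift_fst]; exact sq₁)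
    (pullback.lift_snd _ _ _) (IsPullback.of_hasPullback g (f (c a.1)))
  exact IsZariskiLocalAtTarget.of_isPullback sq₂ (hP _)

theorem IsChart.snd_eq {X : Over S} {S' : Scheme.{u}} {f : S' ⟶ S} (h : IsChart X f) :
    ∃ (I : Type u) (e : pullback X.hom f ≅ ∐ fun _ : I => S'),
      e.hom ≫ Sigma.desc (fun _ => 𝟙 S') = pullback.snd X.hom f :=
  let ⟨I, ⟨a⟩⟩ := h
  ⟨I, (Over.forget _).mapIso a, Over.w a.hom⟩

theorem etale_hom {X : Over S} (hX : TwC.IsTwConst TwC.Topology.etale X) : Etale X.hom := by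
  refine descend_local (P := @Etale) X.hom fun s => ?_
  obtain ⟨S', f, s', hf, hs, h⟩ := exists_chart hX s
  obtain ⟨I, e, he⟩ := h.snd_eq
  haveI : Etale (Sigma.desc fun _ : I => 𝟙 S') := IsZariskiLocalAtSource.sigmaDesc fun _ => inferInstance
  refine ⟨S', f, s', hf, hs, ?_⟩
  rw [← he]
  infer_instance

theorem isSeparated_hom {X : Over S} (hX : TwC.IsTwConst TwC.Topology.etale X) : IsSeparated X.hom := by
  haveI := MiscFlat6.desc_isSeparated.{u}
  refine descend_local (P := @IsSeparated) X.hom fun s => ?_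
  obtain ⟨S', f, s', hf, hs, h⟩ := exists_chart hX s
  obtain ⟨I, e, he⟩ := h.snd_eq
  haveI := DiagHomLib.isSeparated_sigmaDesc fun _ : I => 𝟙 S'
  refine ⟨S', f, s', hf, hs, ?_⟩
  rw [← he]
  infer_instance

end Groth.Agent.TwStruct
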